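import Groth.Agent.TTApprox.Limit
import Groth.Agent.H9Misc.PerfSchRows
import Groth.Agent.PerfPic.Tower
import Groth.Agent.S2151

/-!
# Finitely presented models of perfectly finitely presented perfect schemes
-/

set_option autoImplicit false
set_option linter.style.haveILetI false
set_option linter.unusedSectionVars false
set_option backward.isDefEq.respectTransparency false
set_option backward.isDefEq.respectTransparency.types false

universe u

open CategoryTheory CategoryTheory.Limits AlgebraicGeometry TopologicalSpace Opposite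

noncomputable section

namespace Groth.Agent.H6PM

open Groth.Agent H9Misc.PerfSchLib

variable (p : ℕ) [Fact p.Prime]

/-- Perfect schemes are reduced. -/
theorem isReduced_of_isPerfect {X : Scheme.{u}} [FrobSch.IsCharP X p] (h : FrobSch.IsPerfect X p) :
    IsReduced X := by
  refine ⟨fun U => ⟨fun x hx => ?_⟩⟩
  obtain ⟨n, hn⟩ := hx
  have hb := H9Misc.PerfSchLib.bijective_pow_of_isPerfect p h U
  have key : ∀ (k : ℕ) (y : Γ(X, U)), y ^ p ^ k = 0 → y = 0 := by
    intro k
    induction k with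
    | zero => exact fun y hy => by simpa using hy
    | succ k ih =>
      intro y hy
      refine ih y (hb.1 ?_)
      show (y ^ p ^ k) ^ p = (0 : Γ(X, U)) ^ p
      rw [← pow_mul, ← pow_succ, hy, zero_pow (Fact.out : p.Prime).ne_zero]
  exact key n x (pow_eq_zero_of_le (Nat.lt_pow_self (Fact.out : p.Prime).one_lt).le hn)

/-- The spectrum of the prime field. -/
abbrev primeSpec : Scheme.{u} := Spec (CommRingCat.of (ULift.{u} (ZMod p)))

instance : FrobSch.IsCharP (primeSpec.{u} p) p where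
  natCast_eq_zero := by
    have h : ((p : ℕ) : CommRingCat.of (ULift.{u} (ZMod p))) = 0 := by
      apply ULift.ext
      show ((p : ULift.{u} (ZMod p))).down = 0
      rw [ULift.down_natCast]
      exact ZMod.natCast_self p
    have := congrArg (Scheme.ΓSpecIso (CommRingCat.of (ULift.{u} (ZMod p)))).inv h
    rw [map_natCast, map_zero] at this
    exact this

instance : IsNoetherianRing (ULift.{u} (ZMod p)) :=
  isNoetherianRing_of_ringEquiv (ZMod p) ULift.ringEquiv.symm

instance : IsLocallyNoetherian (primeSpec.{u} p) :=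
  inferInstanceAs (IsLocallyNoetherian (Spec (CommRingCat.of (ULift.{u} (ZMod p)))))

/-- A scheme of characteristic `p` lives over the prime field. -/
theorem exists_hom_primeSpec (X : Scheme.{u}) [FrobSch.IsCharP X p] : Nonempty (X ⟶ primeSpec.{u} p) := by
  have h : ∀ z ∈ Ideal.span {(p : ℤ)}, Int.castRingHom Γ(X, ⊤) z = 0 := fun z hz => by
    obtain ⟨w, rfl⟩ := Ideal.mem_span_singleton'.1 hz
    simp [FrobSch.IsCharP.natCast_eq_zero (X := X) (p := p)]
  let φ : ULift.{u} (ZMod p) →+* Γ(X, ⊤) :=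
    ((Ideal.Quotient.lift _ (Int.castRingHom Γ(X, ⊤)) h).comp
      (Int.quotientSpanNatEquivZMod p).symm.toRingHom).comp ULift.ringEquiv.toRingHom
  exact ⟨X.toSpecΓ ≫ Spec.map (CommRingCat.ofHom φ)⟩

/-- A section of a perfection over an open defines a model. -/
theorem exists_model_of_retract {X D P : Scheme.{u}} [FrobSch.IsCharP X p] [FrobSch.IsCharP D p]
    [FrobSch.IsCharP P p] (hX : FrobSch.IsPerfect X p) [IsNoetherian D] (π : P ⟶ D) (hπ : FrobSch.IsPerfection π p)
    (s : D ⟶ primeSpec.{u} p) [LocallyOfFiniteType s] (q : X ⟶ P) (r : P ⟶ X) (hqr : q ≫ r = 𝟙 X) :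
    ∃ (X0 : Scheme.{u}) (s0 : X0 ⟶ primeSpec.{u} p) (_ : LocallyOfFinitePresentation s0)
      (_ : CompactSpace X0) (_ : QuasiSeparatedSpace X0) (π0 : X ⟶ X0), FrobSch.IsPerfection π0 p := by
  haveI : IsImmersion (q ≫ r) := by rw [hqr]; infer_instance
  haveI : IsImmersion q := IsImmersion.of_comp q r
  have hsurj : Function.Surjective π := (H9Misc.PerfSchLib.surjective p π hπ).surj
  have hopen : IsOpenMap π := fun U hU => by
    obtain ⟨V, hV, rfl⟩ := (PerfPic.isEmbedding p π hπ).isInducing.isOpen_iff.1 hU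
    rwa [Set.image_preimage_eq _ hsurj]
  let W0 : D.Opens := ⟨π '' (q.coborderRange : Set P), hopen _ q.coborderRange.2⟩
  have hW : q.coborderRange = π ⁻¹ᵁ W0 := Opens.ext
    (Set.preimage_image_eq _ (PerfPic.isEmbedding p π hπ).injective).symm
  haveI : FrobSch.IsCharP (W0 : Scheme.{u}) p := FrobSch.IsCharP.of_hom W0.ι p
  haveI : FrobSch.IsCharP ↑(π ⁻¹ᵁ W0) p := FrobSch.IsCharP.of_hom (π ⁻¹ᵁ W0).ι p
  let k : X ⟶ π ⁻¹ᵁ W0 := q.liftCoborder ≫ (P.isoOfEq hW).hom
  haveI : IsClosedImmersion k := inferInstanceAs (IsClosedImmersion (_ ≫ _))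
  have hπ' := H9Misc.PerfSchLib.restrict p hπ W0
  haveI : CompactSpace (W0 : Scheme.{u}) :=
    isCompact_iff_compactSpace.1 (TopologicalSpace.NoetherianSpace.isCompact (W0 : Set D))
  haveI : QuasiSeparatedSpace (W0 : Scheme.{u}) := QuasiSeparatedSpace.of_isOpenEmbedding W0.ι.isOpenEmbedding
  have hce : Topology.IsClosedEmbedding (π ∣_ W0) :=
    { toIsEmbedding := PerfPic.isEmbedding p (π ∣_ W0) hπ'
      isClosed_range := by
        rw [(H9Misc.PerfSchLib.surjective p (π ∣_ W0) hπ').surj.range_eq]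
        exact isClosed_univ }
  haveI := H9Misc.PerfSchLib.isAffineHom p hπ'
  let h : X ⟶ W0 := k ≫ π ∣_ W0
  haveI : QuasiCompact h := inferInstanceAs (QuasiCompact (k ≫ π ∣_ W0))
  have hh : Topology.IsClosedEmbedding h := by
    rw [Scheme.Hom.comp_base, TopCat.coe_comp]
    exact hce.comp k.isClosedEmbedding
  let X0 : Scheme.{u} := h.image
  haveI : FrobSch.IsCharP X0 p := FrobSch.IsCharP.of_hom (h.imageι) p
  haveI : CompactSpace X0 := QuasiCompact.compactSpace_of_compactSpace h.imageι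
  haveI : QuasiSeparatedSpace X0 := quasiSeparatedSpace_of_quasiSeparated h.imageι
  have hts : Function.Surjective h.toImage := by
    rw [← Set.range_eq_univ]
    have hcl : IsClosed (Set.range h.toImage) := by
      have : Set.range h.toImage = h.imageι ⁻¹' Set.range h := by
        ext y
        refine ⟨?_, ?_⟩
        · rintro ⟨x, rfl⟩
          exact ⟨x, by rw [← Scheme.Hom.comp_apply, Scheme.Hom.toImage_imageι]⟩
        · rintro ⟨x, hx⟩
          refine ⟨x, h.imageι.isEmbedding.injective ?_⟩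
          rw [← hx, ← Scheme.Hom.comp_apply, Scheme.Hom.toImage_imageι]
      rw [this]
      exact hh.isClosed_range.preimage h.imageι.continuous
    rw [← hcl.closure_eq]
    exact (h.toImage.denseRange).closure_range
  obtain ⟨XP, _, π0, hπ0, -, -⟩ := H9Misc.PerfSchLib.exists_perfection p X0
  obtain ⟨fP, hfP⟩ := (hπ'.2 XP hπ0.1).2 (π0 ≫ h.imageι)
  replace hfP : fP ≫ π ∣_ W0 = π0 ≫ h.imageι := hfP
  haveI := Groth.Agent.H9Misc.PerfSchLib.isClosedImmersion hπ0 hπ' hfP
  obtain ⟨g, hg⟩ := (hπ0.2 X hX).2 h.toImage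
  replace hg : g ≫ π0 = h.toImage := hg
  have hgk : g ≫ fP = k := (hπ'.2 X hX).1 (by
    show (g ≫ fP) ≫ π ∣_ W0 = k ≫ π ∣_ W0
    rw [Category.assoc, hfP, reassoc_of% hg, Scheme.Hom.toImage_imageι])
  haveI : IsClosedImmersion (g ≫ fP) := by rw [hgk]; infer_instance
  haveI : IsClosedImmersion g := IsClosedImmersion.of_comp g fP
  haveI : Surjective g := ⟨fun y => by
    obtain ⟨x, hx⟩ := hts (π0 y)
    refine ⟨x, (PerfPic.isEmbedding p π0 hπ0).injective ?_⟩
    rw [← hx, ← hg]; rfl⟩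
  haveI := isReduced_of_isPerfect p hπ0.1
  haveI : IsIso g := isIso_of_isClosedImmersion_of_surjective g
  haveI : IsLocallyNoetherian X0 := LocallyOfFiniteType.isLocallyNoetherian (h.imageι ≫ W0.ι ≫ s)
  refine ⟨X0, h.imageι ≫ W0.ι ≫ s, inferInstance, inferInstance, inferInstance, g ≫ π0, hX, fun Y _ hY => ?_⟩
  have : (fun a : Y ⟶ X => a ≫ g ≫ π0) = (fun a : Y ⟶ XP => a ≫ π0) ∘ (fun a : Y ⟶ X => a ≫ g) :=
    funext fun a => (Category.assoc _ _ _).symm
  rw [this]
  exact (hπ0.2 Y hY).comp ⟨fun a b e => (cancel_mono g).1 e, fun b => ⟨b ≫ inv g, by simp⟩⟩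

/-- Perfectly finitely presented perfect schemes have finitely presented models. -/
theorem exists_model (X : Scheme.{u})
    [FrobSch.IsCharP X p] [CompactSpace X] [QuasiSeparatedSpace X] (hXp : FrobSch.IsPerfect X p)
    (hc : ∀ (J : Type u) [SmallCategory J] [IsCofiltered J] (F : J ⥤ Scheme.{u})
      [∀ j, FrobSch.IsCharP (F.obj j) p] (c : Cone F) [FrobSch.IsCharP c.pt p], IsLimit c →
      (∀ ⦃i j : J⦄ (a : i ⟶ j), IsAffineHom (F.map a)) →
      (∀ j, FrobSch.IsPerfect (F.obj j) p ∧ CompactSpace (F.obj j) ∧ QuasiSeparatedSpace (F.obj j)) →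
      FrobSch.IsPerfect c.pt p → CompactSpace c.pt → QuasiSeparatedSpace c.pt →
      (∀ g : c.pt ⟶ X, ∃ (j : J) (gj : F.obj j ⟶ X), c.π.app j ≫ gj = g) ∧
      (∀ (j : J) (g g' : F.obj j ⟶ X), c.π.app j ≫ g = c.π.app j ≫ g' →
        ∃ (k : J) (a : k ⟶ j), F.map a ≫ g = F.map a ≫ g')) :
    ∃ (X0 : Scheme.{u}) (s : X0 ⟶ primeSpec.{u} p) (_ : LocallyOfFinitePresentation s)
      (_ : CompactSpace X0) (_ : QuasiSeparatedSpace X0) (π : X ⟶ X0), FrobSch.IsPerfection π p := by
  obtain ⟨f⟩ := exists_hom_primeSpec p X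
  obtain ⟨I, _, _, _, D, c, hcl, hD, htr, ⟨e⟩⟩ := TTApprox.exists_fp_limit f
  haveI : CategoryTheory.IsConnected Iᵒᵖ := IsCofiltered.isConnected _
  let Xs : Iᵒᵖ ⥤ Scheme.{u} := D ⋙ Over.forget _
  let cX : Cone Xs := (Over.forget _).mapCone c
  have hcX : IsLimit cX := isLimitOfPreserves (Over.forget _) hcl
  haveI hDc : ∀ i, FrobSch.IsCharP (Xs.obj i) p := fun i =>
    FrobSch.IsCharP.of_hom (Y := primeSpec.{u} p) (D.obj i).hom p
  choose P hPc π hπ using fun i : Iᵒᵖ => H9Misc.PerfSchLib.exists_perfection p (Xs.obj i)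
  haveI := hPc
  choose pm hpm using fun (i j : Iᵒᵖ) (a : i ⟶ j) => ((hπ j).1.2 (P i) (hπ i).1.1).2 (π i ≫ Xs.map a)
  replace hpm : ∀ (i j : Iᵒᵖ) (a : i ⟶ j), pm i j a ≫ π j = π i ≫ Xs.map a := hpm
  let F : Iᵒᵖ ⥤ Scheme.{u} :=
    { obj := P
      map := fun {i j} a => pm i j a
      map_id := fun i => ((hπ i).1.2 (P i) (hπ i).1.1).1 (by
        show pm i i (𝟙 i) ≫ π i = 𝟙 _ ≫ π i
        rw [hpm]; simp)
      map_comp := fun {i j k} a b => ((hπ k).1.2 (P i) (hπ i).1.1).1 (by
        show pm i k (a ≫ b) ≫ π k = (pm i j a ≫ pm j k b) ≫ π k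
        rw [hpm, Category.assoc, hpm, reassoc_of% (hpm i j a), Functor.map_comp]) }
  haveI haff : ∀ {i j : Iᵒᵖ} (a : i ⟶ j), IsAffineHom (F.map a) := fun {i j} a =>
    (Groth.Agent.H9Misc.PerfSchLib.isAffineHom_iff (hπ i).1 (hπ j).1 (hpm i j a)).1 (htr i j a)
  haveI : ∀ i, FrobSch.IsCharP (F.obj i) p := hPc
  obtain ⟨L, hL, hLaff⟩ := Groth.Agent.S2151.result F
  obtain ⟨i₀⟩ : Nonempty Iᵒᵖ := inferInstance
  haveI : FrobSch.IsCharP L.pt p := FrobSch.IsCharP.of_hom (L.π.app i₀) p
  have hLp : FrobSch.IsPerfect L.pt p := by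
    haveI : ∀ i, IsIso (FrobSch.frob (F.obj i) p) := fun i => (hπ i).1.1
    let d : Cone F :=
      { pt := L.pt
        π := { app := fun i => L.π.app i ≫ inv (FrobSch.frob (F.obj i) p)
               naturality := fun i j a => by
                 refine (Category.id_comp _).trans ?_
                 rw [← cancel_mono (FrobSch.frob (F.obj j) p),
                   Category.assoc, Category.assoc, Category.assoc, IsIso.inv_hom_id, Category.comp_id,
                   ← FrobSch.frob_comp, IsIso.inv_hom_id_assoc, L.w] } }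
    refine ⟨hL.lift d, hL.hom_ext fun i => ?_, hL.hom_ext fun i => ?_⟩
    · rw [Category.assoc, hL.fac, Category.id_comp, ← Category.assoc, FrobSch.frob_comp, Category.assoc,
        IsIso.hom_inv_id, Category.comp_id]
    · rw [Category.assoc, FrobSch.frob_comp, hL.fac_assoc, Category.assoc, IsIso.inv_hom_id, Category.id_comp,
        Category.comp_id]
  choose q hq using fun i : Iᵒᵖ => ((hπ i).1.2 X hXp).2 (e.inv.left ≫ cX.π.app i)
  replace hq : ∀ i, q i ≫ π i = e.inv.left ≫ cX.π.app i := hq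
  let dX : Cone F :=
    { pt := X
      π := { app := q
             naturality := fun i j a => ((hπ j).1.2 X hXp).1 (by
               show (𝟙 X ≫ q j) ≫ π j = (q i ≫ pm i j a) ≫ π j
               rw [Category.id_comp, Category.assoc, hpm, hq, reassoc_of% (hq i), cX.w]) } }
  let dL : Cone Xs :=
    { pt := L.pt
      π := { app := fun i => L.π.app i ≫ π i
             naturality := fun i j a => by
               refine (Category.id_comp _).trans ?_
               rw [Category.assoc, ← hpm]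
               exact (congrArg (· ≫ π j) (L.w a)).symm.trans (Category.assoc _ _ _) } }
  let eh : cX.pt ≅ X := (Over.forget _).mapIso e
  let E : L.pt ≅ X :=
    { hom := hcX.lift dL ≫ eh.hom
      inv := hL.lift dX
      hom_inv_id := hL.hom_ext fun i => by
        refine ((hπ i).1.2 L.pt hLp).1 ?_
        show (((hcX.lift dL ≫ eh.hom) ≫ hL.lift dX) ≫ L.π.app i) ≫ π i = (𝟙 _ ≫ L.π.app i) ≫ π i
        rw [Category.id_comp, Category.assoc, Category.assoc, Category.assoc, hL.fac_assoc]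
        show hcX.lift dL ≫ eh.hom ≫ q i ≫ π i = _
        rw [hq]
        show hcX.lift dL ≫ eh.hom ≫ eh.inv ≫ cX.π.app i = _
        rw [Iso.hom_inv_id_assoc, hcX.fac]
      inv_hom_id := by
        rw [← Category.assoc, ← Iso.eq_comp_inv]
        refine hcX.hom_ext fun i => ?_
        rw [Category.assoc, hcX.fac, Category.assoc, Category.id_comp]
        show hL.lift dX ≫ L.π.app i ≫ π i = eh.inv ≫ cX.π.app i
        rw [hL.fac_assoc]
        exact hq i }
  haveI hP : ∀ i, CompactSpace (F.obj i) ∧ QuasiSeparatedSpace (F.obj i) := fun i => by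
    haveI := H9Misc.PerfSchLib.isAffineHom p (hπ i).1
    haveI : CompactSpace (Xs.obj i) := (hD i).2.1
    haveI : QuasiSeparatedSpace (Xs.obj i) := (hD i).2.2
    exact ⟨QuasiCompact.compactSpace_of_compactSpace (π i), quasiSeparatedSpace_of_quasiSeparated (π i)⟩
  haveI : IsIso E.hom := E.isIso_hom
  haveI : CompactSpace L.pt := (Scheme.homeoOfIso E).symm.compactSpace
  haveI : QuasiSeparatedSpace L.pt := QuasiSeparatedSpace.of_isOpenEmbedding E.hom.isOpenEmbedding
  obtain ⟨j, r, hr⟩ := (hc Iᵒᵖ F L hL (fun {i j} a => haff a)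
    (fun i => ⟨(hπ i).1.1, hP i⟩) hLp inferInstance inferInstance).1 E.hom
  have hqr : q j ≫ r = 𝟙 X := by
    have h1 : E.inv ≫ L.π.app j = q j := hL.fac dX j
    rw [← h1, Category.assoc, hr, E.inv_hom_id]
  haveI := (hD j).1
  haveI : CompactSpace (Xs.obj j) := (hD j).2.1
  haveI : IsLocallyNoetherian (Xs.obj j) := LocallyOfFiniteType.isLocallyNoetherian (D.obj j).hom
  haveI : AlgebraicGeometry.IsNoetherian (Xs.obj j) := ⟨⟩
  haveI : LocallyOfFiniteType ((D.obj j).hom : Xs.obj j ⟶ primeSpec.{u} p) :=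
    inferInstanceAs (LocallyOfFiniteType (D.obj j).hom)
  exact exists_model_of_retract p hXp (π j) (hπ j).1 ((D.obj j).hom : Xs.obj j ⟶ primeSpec.{u} p) (q j) r hqr

end Groth.Agent.H6PM
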